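import Groth.Agent.DescFP.Main
import Groth.Agent.DescFP.Hom
import Groth.Prelude

/-!
Morphisms of schemes of finite presentation over the stages of an affine limit, in the categories `Over`.
-/

set_option autoImplicit false
set_option linter.style.haveILetI false
set_option backward.isDefEq.respectTransparency false
set_option maxHeartbeats 1000000

noncomputable section

universe u

open CategoryTheory CategoryTheory.Limits MonoidalCategory CartesianMonoidalCategory AlgebraicGeometry

namespace GrpLimLib

theorem bc_ext {S S' : Scheme.{u}} {g : S' ⟶ S} {X : Over S} {T : Over S'} {a b : T ⟶ Red.bc g X}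
    (h : a.left ≫ pullback.fst X.hom g = b.left ≫ pullback.fst X.hom g) : a = b :=
  Over.OverMorphism.ext (pullback.hom_ext h ((Over.w a).trans (Over.w b).symm))

theorem map_left_fst {S S' : Scheme.{u}} (g : S' ⟶ S) {X Y : Over S} (v : X ⟶ Y) :
    ((Over.pullback g).map v).left ≫ pullback.fst Y.hom g = pullback.fst X.hom g ≫ v.left :=
  pullback.lift_fst _ _ _

theorem pullbackComp_hom_left {S S' S'' : Scheme.{u}} (f : S'' ⟶ S') (g : S' ⟶ S) (X : Over S) :
    ((Over.pullbackComp f g).hom.app X).left ≫ pullback.fst (Red.bc g X).hom f ≫ pullback.fst X.hom g =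
      pullback.fst X.hom (f ≫ g) := by
  simp [Over.pullbackComp, conjugateIsoEquiv, conjugateEquiv, mateEquiv, Over.mapComp]
  erw [Category.id_comp, Category.id_comp]

theorem eqToIso_left_fst {S S' : Scheme.{u}} {g g' : S' ⟶ S} (h : g = g') (X : Over S) :
    (eqToIso (congrArg (fun t => Red.bc t X) h)).hom.left ≫ pullback.fst X.hom g' = pullback.fst X.hom g := by
  subst h
  exact Category.id_comp _

variable {I : Type u} [SmallCategory I] {D : I ⥤ Scheme.{u}} (c : Cone D) {i j : I}

/-- The comparison between a pullback in two steps and the pullback in one step. -/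
def compIso (a : i ⟶ j) (X : Over (D.obj j)) :
    Red.bc (c.π.app i) (Red.bc (D.map a) X) ≅ Red.bc (c.π.app j) X :=
  ((Over.pullbackComp (c.π.app i) (D.map a)).app X).symm ≪≫ eqToIso (congrArg (fun g => Red.bc g X) (c.w a))

theorem compIso_hom_fst (a : i ⟶ j) (X : Over (D.obj j)) :
    (compIso c a X).hom.left ≫ pullback.fst X.hom (c.π.app j) =
      pullback.fst (Red.bc (D.map a) X).hom (c.π.app i) ≫ pullback.fst X.hom (D.map a) := by
  show (((Over.pullbackComp (c.π.app i) (D.map a)).inv.app X) ≫
    (eqToIso (congrArg (fun g => Red.bc g X) (c.w a))).hom).left ≫ _ = _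
  rw [Over.comp_left, Category.assoc, eqToIso_left_fst (c.w a) X,
    ← pullbackComp_hom_left (c.π.app i) (D.map a) X, ← Category.assoc, ← Over.comp_left, Iso.inv_hom_id_app]
  exact Category.id_comp _

theorem compIso_naturality (a : i ⟶ j) {X Y : Over (D.obj j)} (v : X ⟶ Y) :
    (Over.pullback (c.π.app i)).map ((Over.pullback (D.map a)).map v) ≫ (compIso c a Y).hom =
      (compIso c a X).hom ≫ (Over.pullback (c.π.app j)).map v := by
  apply bc_ext
  rw [Over.comp_left, Over.comp_left, Category.assoc, Category.assoc, compIso_hom_fst, map_left_fst,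
    ← Category.assoc, map_left_fst, Category.assoc, map_left_fst, ← Category.assoc (compIso c a X).hom.left,
    compIso_hom_fst, Category.assoc]

variable {c} (hc : IsLimit c) [IsCofiltered I] [∀ (i i' : I) (f : i ⟶ i'), IsAffineHom (D.map f)]
  [∀ i, CompactSpace (D.obj i)] [∀ i, QuasiSeparatedSpace (D.obj i)]

include hc in
/-- A morphism over the limit is defined at some stage. -/
theorem exists_descend {X Y : Over (D.obj j)} [QuasiCompact X.hom] [QuasiSeparated X.hom]
    [LocallyOfFinitePresentation Y.hom] (u : Red.bc (c.π.app j) X ⟶ Red.bc (c.π.app j) Y) :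
    ∃ (i : I) (a : i ⟶ j) (v : Red.bc (D.map a) X ⟶ Red.bc (D.map a) Y),
      (Over.pullback (c.π.app i)).map v = (compIso c a X).hom ≫ u ≫ (compIso c a Y).inv := by
  haveI : CompactSpace X.left := QuasiCompact.compactSpace_of_compactSpace X.hom
  haveI : QuasiSeparatedSpace X.left := quasiSeparatedSpace_of_quasiSeparated X.hom
  obtain ⟨i, a, fj, sX, sY, hfj, hX1, hX2, hY1, hY2, hs⟩ := DescFP.exists_hom_descend hc X.hom Y.hom
    (pullback.fst X.hom (c.π.app j)) (pullback.snd X.hom (c.π.app j)) (IsPullback.of_hasPullback _ _)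
    (pullback.fst Y.hom (c.π.app j)) (pullback.snd Y.hom (c.π.app j)) (IsPullback.of_hasPullback _ _)
    u.left (Over.w u)
  let v : Red.bc (D.map a) X ⟶ Red.bc (D.map a) Y := Over.homMk fj hfj
  refine ⟨i, a, v, ?_⟩
  have key : ∀ Z : Over (D.obj j), ∀ s : (Red.bc (c.π.app j) Z).left ⟶ (Red.bc (D.map a) Z).left,
      s ≫ pullback.fst Z.hom (D.map a) = pullback.fst Z.hom (c.π.app j) →
      s ≫ pullback.snd Z.hom (D.map a) = pullback.snd Z.hom (c.π.app j) ≫ c.π.app i →
      (compIso c a Z).hom.left ≫ s = pullback.fst (Red.bc (D.map a) Z).hom (c.π.app i) := by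
    intro Z s h1 h2
    apply pullback.hom_ext
    · rw [Category.assoc, h1, compIso_hom_fst]
    · have h3 : (compIso c a Z).hom.left ≫ pullback.snd Z.hom (c.π.app j) =
          pullback.snd (Red.bc (D.map a) Z).hom (c.π.app i) := Over.w (compIso c a Z).hom
      rw [Category.assoc, h2, reassoc_of% h3]
      exact pullback.condition.symm
  have hu : (compIso c a X).hom ≫ u = (Over.pullback (c.π.app i)).map v ≫ (compIso c a Y).hom := by
    apply bc_ext
    rw [Over.comp_left, Over.comp_left, Category.assoc, Category.assoc, compIso_hom_fst, ← Category.assoc _ _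
      (pullback.fst Y.hom (D.map a)), map_left_fst, ← key X sX hX1 hX2, Category.assoc]
    show _ = (compIso c a X).hom.left ≫ (sX ≫ fj ≫ pullback.fst Y.hom (D.map a))
    rw [reassoc_of% hs, hY1]
  rw [← Category.assoc, hu, Category.assoc, Iso.hom_inv_id, Category.comp_id]

omit [∀ i, QuasiSeparatedSpace (D.obj i)] in
include hc in
/-- Morphisms agreeing over the limit agree at some stage. -/
theorem exists_eq {X Y : Over (D.obj j)} [QuasiCompact X.hom] [LocallyOfFiniteType Y.hom] (v w : X ⟶ Y)
    (h : (Over.pullback (c.π.app j)).map v = (Over.pullback (c.π.app j)).map w) :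
    ∃ (i : I) (a : i ⟶ j), (Over.pullback (D.map a)).map v = (Over.pullback (D.map a)).map w := by
  haveI : CompactSpace X.left := QuasiCompact.compactSpace_of_compactSpace X.hom
  obtain ⟨i, a, e⟩ := DescFP.hom_eq_eventually hc X.hom Y.hom
    (pullback.fst X.hom (c.π.app j)) (pullback.snd X.hom (c.π.app j)) (IsPullback.of_hasPullback _ _)
    v.left w.left (Over.w v) (Over.w w)
    (by rw [← map_left_fst, ← map_left_fst, h])
  exact ⟨i, a, bc_ext (by rw [map_left_fst, map_left_fst, e])⟩

end GrpLimLib

end
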