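import Groth.Agent.GrpLimLib.Basic

/-!
Group structures over the stages of an affine limit.
-/

set_option autoImplicit false
set_option linter.style.haveILetI false
set_option backward.isDefEq.respectTransparency false
set_option maxHeartbeats 1000000

noncomputable section

universe v u

open CategoryTheory CategoryTheory.Limits MonoidalCategory CartesianMonoidalCategory AlgebraicGeometry MonObj GrpObj
open Functor.LaxMonoidal Functor.OplaxMonoidal

namespace GrpLimLib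

section Abstract

variable {C D : Type*} [Category C] [Category D] [CartesianMonoidalCategory C] [CartesianMonoidalCategory D]
  (F : C ⥤ D) [F.Monoidal] {X : C} (o : 𝟙_ C ⟶ X) (m : X ⊗ X ⟶ X) (v : X ⟶ X)

/-- The group axioms hold after applying a functor. -/
def MapAxioms : Prop :=
  F.map (o ▷ X ≫ m) = F.map (λ_ X).hom ∧ F.map (X ◁ o ≫ m) = F.map (ρ_ X).hom ∧
    F.map (m ▷ X ≫ m) = F.map ((α_ X X X).hom ≫ X ◁ m ≫ m) ∧
    F.map (lift v (𝟙 X) ≫ m) = F.map (toUnit X ≫ o) ∧ F.map (lift (𝟙 X) v ≫ m) = F.map (toUnit X ≫ o)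

/-- A structure satisfying the axioms after a functor gives a group object in the target. -/
abbrev grpOfMapAxioms (h : MapAxioms F o m v) : GrpObj (F.obj X) where
  one := ε F ≫ F.map o
  mul := Functor.LaxMonoidal.μ F X X ≫ F.map m
  one_mul := by
    rw [comp_whiskerRight, Category.assoc, μ_natural_left_assoc, ← F.map_comp, h.1, Functor.LaxMonoidal.left_unitality]
  mul_one := by
    rw [MonoidalCategory.whiskerLeft_comp, Category.assoc, μ_natural_right_assoc, ← F.map_comp, h.2.1,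
      Functor.LaxMonoidal.right_unitality]
  mul_assoc := by
    simp_rw [comp_whiskerRight, Category.assoc, μ_natural_left_assoc,
      MonoidalCategory.whiskerLeft_comp, Category.assoc, μ_natural_right_assoc]
    slice_lhs 3 4 => rw [← F.map_comp, h.2.2.1]
    simp
  inv := F.map v
  left_inv := by
    rw [← F.map_id, Functor.Monoidal.lift_μ_assoc, Functor.Monoidal.toUnit_ε_assoc, ← F.map_comp, ← F.map_comp,
      h.2.2.2.1]
  right_inv := by
    rw [← F.map_id, Functor.Monoidal.lift_μ_assoc, Functor.Monoidal.toUnit_ε_assoc, ← F.map_comp, ← F.map_comp,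
      h.2.2.2.2]

/-- A structure giving the operations of a group object after a functor satisfies the axioms there. -/
theorem mapAxioms_of_grp [GrpObj (F.obj X)] (ho : η[F.obj X] = ε F ≫ F.map o)
    (hm : μ[F.obj X] = Functor.LaxMonoidal.μ F X X ≫ F.map m) (hv : ι[F.obj X] = F.map v) : MapAxioms F o m v := by
  refine ⟨?_, ?_, ?_, ?_, ?_⟩
  · rw [← cancel_epi (Functor.LaxMonoidal.μ F (𝟙_ C) X), ← cancel_epi (ε F ▷ F.obj X)]
    have h1 := MonObj.one_mul (F.obj X)
    rw [ho, hm, comp_whiskerRight, Category.assoc, μ_natural_left_assoc, ← F.map_comp, Functor.LaxMonoidal.left_unitality F X] at h1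
    exact h1
  · rw [← cancel_epi (Functor.LaxMonoidal.μ F X (𝟙_ C)), ← cancel_epi (F.obj X ◁ ε F)]
    have h1 := MonObj.mul_one (F.obj X)
    rw [ho, hm, MonoidalCategory.whiskerLeft_comp, Category.assoc, μ_natural_right_assoc, ← F.map_comp,
      Functor.LaxMonoidal.right_unitality F X] at h1
    exact h1
  · rw [← cancel_epi (Functor.LaxMonoidal.μ F (X ⊗ X) X), ← cancel_epi (Functor.LaxMonoidal.μ F X X ▷ F.obj X)]
    have h1 := MonObj.mul_assoc (F.obj X)
    rw [hm] at h1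
    simpa [Functor.LaxMonoidal.associativity_assoc] using h1
  · have h1 := GrpObj.left_inv (F.obj X)
    rw [ho, hm, hv, ← F.map_id, Functor.Monoidal.lift_μ_assoc, Functor.Monoidal.toUnit_ε_assoc, ← F.map_comp,
      ← F.map_comp] at h1
    exact h1
  · have h1 := GrpObj.right_inv (F.obj X)
    rw [ho, hm, hv, ← F.map_id, Functor.Monoidal.lift_μ_assoc, Functor.Monoidal.toUnit_ε_assoc, ← F.map_comp,
      ← F.map_comp] at h1
    exact h1

omit [F.Monoidal] in
/-- Two maps into the image of a product agree when their components do. -/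
theorem map_prod_ext [F.Monoidal] {Y Z : C} {T : D} {a b : T ⟶ F.obj (Y ⊗ Z)}
    (h1 : a ≫ F.map (fst Y Z) = b ≫ F.map (fst Y Z)) (h2 : a ≫ F.map (snd Y Z) = b ≫ F.map (snd Y Z)) : a = b := by
  rw [← cancel_mono (δ F Y Z)]
  refine CartesianMonoidalCategory.hom_ext _ _ ?_ ?_
  · simpa using h1
  · simpa using h2

end Abstract

section Limit

variable {I : Type u} [SmallCategory I] {D : I ⥤ Scheme.{u}} {c : Cone D} {i j : I}

theorem compIso_mul (a : i ⟶ j) (X Y : Over (D.obj j)) :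
    Functor.LaxMonoidal.μ (Over.pullback (c.π.app i)) (Red.bc (D.map a) X) (Red.bc (D.map a) Y) ≫
      (Over.pullback (c.π.app i)).map (Functor.LaxMonoidal.μ (Over.pullback (D.map a)) X Y) ≫ (compIso c a (X ⊗ Y)).hom =
    ((compIso c a X).hom ⊗ₘ (compIso c a Y).hom) ≫ Functor.LaxMonoidal.μ (Over.pullback (c.π.app j)) X Y := by
  apply map_prod_ext (Over.pullback (c.π.app j))
  · rw [Category.assoc, Category.assoc, ← compIso_naturality, ← Functor.map_comp_assoc]
    simp only [Category.assoc, Functor.Monoidal.μ_fst, Functor.Monoidal.μ_fst_assoc, tensorHom_fst]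
  · rw [Category.assoc, Category.assoc, ← compIso_naturality, ← Functor.map_comp_assoc]
    simp only [Category.assoc, Functor.Monoidal.μ_snd, Functor.Monoidal.μ_snd_assoc, tensorHom_snd]

theorem compIso_unit (a : i ⟶ j) :
    ε (Over.pullback (c.π.app i)) ≫ (Over.pullback (c.π.app i)).map (ε (Over.pullback (D.map a))) ≫
      (compIso c a (𝟙_ _)).hom = ε (Over.pullback (c.π.app j)) := by
  rw [← cancel_mono (Functor.OplaxMonoidal.η (Over.pullback (c.π.app j)))]
  exact toUnit_unique _ _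

theorem eq_of_factor {X Y : Over (D.obj j)} {k : I} {l r : X ⟶ Y} (b : k ⟶ i) (a : i ⟶ j) (a' : k ⟶ j)
    (hab : b ≫ a = a') (h : (Over.pullback (D.map a)).map l = (Over.pullback (D.map a)).map r) :
    (Over.pullback (D.map a')).map l = (Over.pullback (D.map a')).map r := by
  apply bc_ext
  rw [map_left_fst, map_left_fst]
  have h1 := congrArg (fun m : Red.bc (D.map a) X ⟶ Red.bc (D.map a) Y => m.left ≫ pullback.fst Y.hom (D.map a)) h
  simp only [map_left_fst] at h1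
  let w : pullback X.hom (D.map a') ⟶ pullback X.hom (D.map a) :=
    pullback.lift (pullback.fst _ _) (pullback.snd _ _ ≫ D.map b)
      (by rw [pullback.condition, Category.assoc, ← Functor.map_comp, hab])
  have hw : w ≫ pullback.fst X.hom (D.map a) = pullback.fst X.hom (D.map a') := pullback.lift_fst _ _ _
  rw [← hw, Category.assoc, h1, Category.assoc]

variable [IsCofiltered I] [∀ (i i' : I) (f : i ⟶ i'), IsAffineHom (D.map f)] [∀ i, CompactSpace (D.obj i)]
  [∀ i, QuasiSeparatedSpace (D.obj i)] (hc : IsLimit c)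

include hc in
/-- The unit descends. -/
theorem exists_one {X : Over (D.obj j)} [LocallyOfFinitePresentation X.hom] {G : Over c.pt} [GrpObj G]
    (e : Red.bc (c.π.app j) X ≅ G) :
    ∃ (i : I) (a : i ⟶ j) (o : 𝟙_ _ ⟶ Red.bc (D.map a) X),
      ε (Over.pullback (c.π.app i)) ≫ (Over.pullback (c.π.app i)).map o ≫ (compIso c a X ≪≫ e).hom = η[G] := by
  haveI : QuasiCompact (𝟙_ (Over (D.obj j))).hom := inferInstanceAs (QuasiCompact (𝟙 _))
  haveI : QuasiSeparated (𝟙_ (Over (D.obj j))).hom := inferInstanceAs (QuasiSeparated (𝟙 _))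
  obtain ⟨i, a, v, hv⟩ := exists_descend hc (Functor.OplaxMonoidal.η (Over.pullback (c.π.app j)) ≫ η[G] ≫ e.inv)
  refine ⟨i, a, ε (Over.pullback (D.map a)) ≫ v, ?_⟩
  rw [Functor.map_comp, hv, Iso.trans_hom]
  simp only [Category.assoc, Iso.inv_hom_id, Category.comp_id, Iso.inv_hom_id_assoc]
  rw [← Category.assoc (CategoryTheory.Functor.map _ _), ← Category.assoc (ε _), compIso_unit a,
    Functor.Monoidal.ε_η_assoc]

include hc in
/-- The multiplication descends. -/
theorem exists_mul {X : Over (D.obj j)} [LocallyOfFinitePresentation X.hom] [QuasiCompact X.hom]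
    [QuasiSeparated X.hom] {G : Over c.pt} [GrpObj G] (e : Red.bc (c.π.app j) X ≅ G) :
    ∃ (i : I) (a : i ⟶ j) (m : Red.bc (D.map a) X ⊗ Red.bc (D.map a) X ⟶ Red.bc (D.map a) X),
      Functor.LaxMonoidal.μ (Over.pullback (c.π.app i)) _ _ ≫ (Over.pullback (c.π.app i)).map m ≫ (compIso c a X ≪≫ e).hom =
        ((compIso c a X ≪≫ e).hom ⊗ₘ (compIso c a X ≪≫ e).hom) ≫ μ[G] := by
  haveI : QuasiCompact (X ⊗ X).hom := by rw [Over.tensorObj_hom]; infer_instance
  haveI : QuasiSeparated (X ⊗ X).hom := by rw [Over.tensorObj_hom]; infer_instance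
  obtain ⟨i, a, v, hv⟩ := exists_descend hc (δ (Over.pullback (c.π.app j)) X X ≫ (e.hom ⊗ₘ e.hom) ≫ μ[G] ≫ e.inv)
  refine ⟨i, a, Functor.LaxMonoidal.μ (Over.pullback (D.map a)) X X ≫ v, ?_⟩
  rw [Functor.map_comp, hv, Iso.trans_hom]
  simp only [Category.assoc, Iso.inv_hom_id, Category.comp_id, Iso.inv_hom_id_assoc]
  rw [← Category.assoc (CategoryTheory.Functor.map _ _), ← Category.assoc (Functor.LaxMonoidal.μ (Over.pullback (c.π.app i)) _ _), compIso_mul a X X,
    Category.assoc, Functor.Monoidal.μ_δ_assoc, tensorHom_comp_tensorHom_assoc]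

include hc in
/-- The inverse descends. -/
theorem exists_inv {X : Over (D.obj j)} [LocallyOfFinitePresentation X.hom] [QuasiCompact X.hom]
    [QuasiSeparated X.hom] {G : Over c.pt} [GrpObj G] (e : Red.bc (c.π.app j) X ≅ G) :
    ∃ (i : I) (a : i ⟶ j) (v : Red.bc (D.map a) X ⟶ Red.bc (D.map a) X),
      (Over.pullback (c.π.app i)).map v ≫ (compIso c a X ≪≫ e).hom = (compIso c a X ≪≫ e).hom ≫ ι[G] := by
  obtain ⟨i, a, v, hv⟩ := exists_descend hc (e.hom ≫ ι[G] ≫ e.inv)
  refine ⟨i, a, v, ?_⟩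
  rw [hv, Iso.trans_hom]
  simp only [Category.assoc, Iso.inv_hom_id, Category.comp_id, Iso.inv_hom_id_assoc]

variable {X : Over (D.obj j)} {G : Over c.pt} [GrpObj G] (e : Red.bc (c.π.app j) X ≅ G)

omit [IsCofiltered I] [∀ (i i' : I) (f : i ⟶ i'), IsAffineHom (D.map f)] [∀ i, CompactSpace (D.obj i)]
  [∀ i, QuasiSeparatedSpace (D.obj i)] in
/-- A descended unit stays one. -/
theorem one_push (a : i ⟶ j) (o : 𝟙_ _ ⟶ X)
    (h : ε (Over.pullback (c.π.app j)) ≫ (Over.pullback (c.π.app j)).map o ≫ e.hom = η[G]) :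
    ε (Over.pullback (c.π.app i)) ≫ (Over.pullback (c.π.app i)).map (ε (Over.pullback (D.map a)) ≫
      (Over.pullback (D.map a)).map o) ≫ (compIso c a X ≪≫ e).hom = η[G] := by
  rw [Functor.map_comp, Iso.trans_hom, Category.assoc, ← Category.assoc _ (compIso c a X).hom, compIso_naturality,
    Category.assoc, ← Category.assoc (CategoryTheory.Functor.map _ _), ← Category.assoc (ε _), compIso_unit, h]

omit [IsCofiltered I] [∀ (i i' : I) (f : i ⟶ i'), IsAffineHom (D.map f)] [∀ i, CompactSpace (D.obj i)]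
  [∀ i, QuasiSeparatedSpace (D.obj i)] in
/-- A descended multiplication stays one. -/
theorem mul_push (a : i ⟶ j) (m : X ⊗ X ⟶ X)
    (h : Functor.LaxMonoidal.μ (Over.pullback (c.π.app j)) X X ≫ (Over.pullback (c.π.app j)).map m ≫ e.hom = (e.hom ⊗ₘ e.hom) ≫ μ[G]) :
    Functor.LaxMonoidal.μ (Over.pullback (c.π.app i)) _ _ ≫ (Over.pullback (c.π.app i)).map (Functor.LaxMonoidal.μ (Over.pullback (D.map a)) X X ≫
      (Over.pullback (D.map a)).map m) ≫ (compIso c a X ≪≫ e).hom =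
      ((compIso c a X ≪≫ e).hom ⊗ₘ (compIso c a X ≪≫ e).hom) ≫ μ[G] := by
  rw [Functor.map_comp, Iso.trans_hom, Category.assoc, ← Category.assoc _ (compIso c a X).hom, compIso_naturality,
    Category.assoc, ← Category.assoc (CategoryTheory.Functor.map _ _), ← Category.assoc (Functor.LaxMonoidal.μ (Over.pullback (c.π.app i)) _ _),
    compIso_mul, Category.assoc, h, tensorHom_comp_tensorHom_assoc]

omit [IsCofiltered I] [∀ (i i' : I) (f : i ⟶ i'), IsAffineHom (D.map f)] [∀ i, CompactSpace (D.obj i)]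
  [∀ i, QuasiSeparatedSpace (D.obj i)] in
/-- A descended inverse stays one. -/
theorem inv_push (a : i ⟶ j) (v : X ⟶ X)
    (h : (Over.pullback (c.π.app j)).map v ≫ e.hom = e.hom ≫ ι[G]) :
    (Over.pullback (c.π.app i)).map ((Over.pullback (D.map a)).map v) ≫ (compIso c a X ≪≫ e).hom =
      (compIso c a X ≪≫ e).hom ≫ ι[G] := by
  rw [Iso.trans_hom, ← Category.assoc _ (compIso c a X).hom, compIso_naturality, Category.assoc, h, Category.assoc]

include hc in
/-- A group law with models of the operations at a stage is a group law at a later stage. -/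
theorem exists_grp_of_data [LocallyOfFinitePresentation X.hom] [QuasiCompact X.hom] [QuasiSeparated X.hom]
    (o : 𝟙_ _ ⟶ X) (m : X ⊗ X ⟶ X) (v : X ⟶ X)
    (ho : ε (Over.pullback (c.π.app j)) ≫ (Over.pullback (c.π.app j)).map o ≫ e.hom = η[G])
    (hm : Functor.LaxMonoidal.μ (Over.pullback (c.π.app j)) X X ≫ (Over.pullback (c.π.app j)).map m ≫ e.hom =
      (e.hom ⊗ₘ e.hom) ≫ μ[G])
    (hv : (Over.pullback (c.π.app j)).map v ≫ e.hom = e.hom ≫ ι[G]) :
    ∃ (i : I) (a : i ⟶ j) (_ : GrpObj (Red.bc (D.map a) X)),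
      IsMonHom (compIso c a X ≪≫ e).hom := by
  letI : GrpObj ((Over.pullback (c.π.app j)).obj X) := GrpObj.ofIso e.symm
  have hax : MapAxioms (Over.pullback (c.π.app j)) o m v := by
    refine mapAxioms_of_grp _ o m v ?_ ?_ ?_
    · show η[G] ≫ e.inv = _
      rw [← ho, Category.assoc, Category.assoc, e.hom_inv_id, Category.comp_id]
    · show (e.hom ⊗ₘ e.hom) ≫ μ[G] ≫ e.inv = _
      rw [← Category.assoc, ← hm, Category.assoc, Category.assoc, e.hom_inv_id, Category.comp_id]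
    · show e.hom ≫ ι[G] ≫ e.inv = _
      rw [← Category.assoc, ← hv, Category.assoc, e.hom_inv_id, Category.comp_id]
  haveI : QuasiCompact (X ⊗ X).hom := by rw [Over.tensorObj_hom]; infer_instance
  haveI : QuasiCompact ((X ⊗ X) ⊗ X).hom := by rw [Over.tensorObj_hom]; infer_instance
  haveI : QuasiCompact (𝟙_ (Over (D.obj j)) ⊗ X).hom := by
    haveI : QuasiCompact (𝟙_ (Over (D.obj j))).hom := inferInstanceAs (QuasiCompact (𝟙 _))
    rw [Over.tensorObj_hom]; infer_instance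
  haveI : QuasiCompact (X ⊗ 𝟙_ (Over (D.obj j))).hom := by
    haveI : QuasiCompact (𝟙_ (Over (D.obj j))).hom := inferInstanceAs (QuasiCompact (𝟙 _))
    rw [Over.tensorObj_hom]; infer_instance
  obtain ⟨i₁, a₁, h₁⟩ := exists_eq hc _ _ hax.1
  obtain ⟨i₂, a₂, h₂⟩ := exists_eq hc _ _ hax.2.1
  obtain ⟨i₃, a₃, h₃⟩ := exists_eq hc _ _ hax.2.2.1
  obtain ⟨i₄, a₄, h₄⟩ := exists_eq hc _ _ hax.2.2.2.1
  obtain ⟨i₅, a₅, h₅⟩ := exists_eq hc _ _ hax.2.2.2.2
  obtain ⟨k₁, b₁, b₁', e₁⟩ := IsCofiltered.cospan a₁ a₂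
  obtain ⟨k₂, b₂, b₂', e₂⟩ := IsCofiltered.cospan (b₁ ≫ a₁) a₃
  obtain ⟨k₃, b₃, b₃', e₃⟩ := IsCofiltered.cospan (b₂ ≫ b₁ ≫ a₁) a₄
  obtain ⟨i, b₄, b₄', e₄⟩ := IsCofiltered.cospan (b₃ ≫ b₂ ≫ b₁ ≫ a₁) a₅
  let a := b₄ ≫ b₃ ≫ b₂ ≫ b₁ ≫ a₁
  have hA : MapAxioms (Over.pullback (D.map a)) o m v := by
    refine ⟨eq_of_factor (b₄ ≫ b₃ ≫ b₂ ≫ b₁) a₁ a ?_ h₁, eq_of_factor (b₄ ≫ b₃ ≫ b₂ ≫ b₁') a₂ a ?_ h₂,
      eq_of_factor (b₄ ≫ b₃ ≫ b₂') a₃ a ?_ h₃, eq_of_factor (b₄ ≫ b₃') a₄ a ?_ h₄,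
      eq_of_factor b₄' a₅ a e₄.symm h₅⟩
    · simp [a]
    · simp [a, e₁]
    · simp [a, e₂]
    · simp [a, e₃]
  letI inst : GrpObj (Red.bc (D.map a) X) := grpOfMapAxioms _ o m v hA
  refine ⟨i, a, inst, ⟨?_, ?_⟩⟩
  · show (ε (Over.pullback (c.π.app i)) ≫ (Over.pullback (c.π.app i)).map
      (ε (Over.pullback (D.map a)) ≫ (Over.pullback (D.map a)).map o)) ≫ _ = _
    rw [Category.assoc, one_push e a o ho]
  · show (Functor.LaxMonoidal.μ (Over.pullback (c.π.app i)) _ _ ≫ (Over.pullback (c.π.app i)).map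
      (Functor.LaxMonoidal.μ (Over.pullback (D.map a)) X X ≫ (Over.pullback (D.map a)).map m)) ≫ _ = _
    rw [Category.assoc, mul_push e a m hm]

include hc in
/-- A group scheme of finite presentation over the limit comes from a stage. -/
theorem exists_grp (G : Over c.pt) [GrpObj G] [LocallyOfFinitePresentation G.hom] [QuasiCompact G.hom]
    [QuasiSeparated G.hom] :
    ∃ (j : I) (Gj : Over (D.obj j)) (_ : GrpObj Gj) (e : G ≅ Red.bc (c.π.app j) Gj),
      IsMonHom e.hom ∧ LocallyOfFinitePresentation Gj.hom ∧ QuasiCompact Gj.hom ∧ QuasiSeparated Gj.hom := by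
  obtain ⟨j₀, ⟨M⟩⟩ := DescFP.exists_model hc G.hom
  let X₀ : Over (D.obj j₀) := Over.mk M.p
  haveI : LocallyOfFinitePresentation X₀.hom := M.lfp
  haveI : QuasiCompact X₀.hom := M.qc
  haveI : QuasiSeparated X₀.hom := M.qs
  let e₀ : Red.bc (c.π.app j₀) X₀ ≅ G := (Over.isoMk M.sq.isoPullback M.sq.isoPullback_hom_snd).symm
  have hP : ∀ {s t : I} (a : s ⟶ t) (X : Over (D.obj t)), LocallyOfFinitePresentation X.hom → QuasiCompact X.hom →
      QuasiSeparated X.hom → LocallyOfFinitePresentation (Red.bc (D.map a) X).hom ∧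
        QuasiCompact (Red.bc (D.map a) X).hom ∧ QuasiSeparated (Red.bc (D.map a) X).hom := fun a X h1 h2 h3 =>
    ⟨MorphismProperty.pullback_snd _ _ h1, MorphismProperty.pullback_snd _ _ h2, MorphismProperty.pullback_snd _ _ h3⟩
  obtain ⟨j₁, a₁, m₁, hm₁⟩ := exists_mul hc e₀
  obtain ⟨p1, p2, p3⟩ := hP a₁ X₀ inferInstance inferInstance inferInstance
  obtain ⟨j₂, a₂, o₂, ho₂⟩ := exists_one hc (compIso c a₁ X₀ ≪≫ e₀)
  obtain ⟨q1, q2, q3⟩ := hP a₂ _ p1 p2 p3
  obtain ⟨j₃, a₃, v₃, hv₃⟩ := exists_inv hc (compIso c a₂ _ ≪≫ compIso c a₁ X₀ ≪≫ e₀)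
  obtain ⟨r1, r2, r3⟩ := hP a₃ _ q1 q2 q3
  have ho₃ := one_push _ a₃ o₂ ho₂
  have hm₂ := mul_push _ a₂ m₁ hm₁
  have hm₃ := mul_push _ a₃ _ hm₂
  haveI := r1; haveI := r2; haveI := r3
  obtain ⟨i, a, inst, he⟩ := exists_grp_of_data hc _ _ _ v₃ ho₃ hm₃ hv₃
  letI := inst
  refine ⟨i, _, inst, (compIso c a _ ≪≫ compIso c a₃ _ ≪≫ compIso c a₂ _ ≪≫ compIso c a₁ X₀ ≪≫ e₀).symm, ?_,
    (hP a _ r1 r2 r3).1, (hP a _ r1 r2 r3).2.1, (hP a _ r1 r2 r3).2.2⟩
  haveI := he
  rw [Iso.symm_hom]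
  infer_instance

end Limit

end GrpLimLib

end
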